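import Mathlib.AlgebraicGeometry.PullbackCarrier
import Mathlib.AlgebraicGeometry.AffineScheme
import Mathlib.RingTheory.TensorProduct.Basic

/-!
# Affine charts of `X ×_{Spec R} Spec B` and descent of quasi-compact opens
-/

set_option autoImplicit false
universe u

open CategoryTheory CategoryTheory.Limits AlgebraicGeometry TensorProduct

namespace K419.ChartBC

variable {R : Type u} [CommRing R] {X : Scheme.{u}} (f : X ⟶ Spec (CommRingCat.of R))

/-- An affine chart of a scheme over `Spec R`. -/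
structure Ch where
  /-- the ring -/
  S : Type u
  [ring : CommRing S]
  [alg : Algebra R S]
  /-- the open immersion -/
  i : Spec (CommRingCat.of S) ⟶ X
  [isOpen : IsOpenImmersion i]
  hi : i ≫ f = Spec.map (CommRingCat.ofHom (algebraMap R S))

attribute [instance] Ch.ring Ch.alg Ch.isOpen

variable {f}

theorem exists_ch (x : X) : ∃ (c : Ch f) (p : Spec (CommRingCat.of c.S)), c.i p = x := by
  obtain ⟨p, hp⟩ := X.affineCover.covers x
  let A : CommRingCat.{u} := X.affineOpenCover.X (X.affineCover.idx x)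
  let i : Spec A ⟶ X := X.affineCover.f (X.affineCover.idx x)
  let φ : CommRingCat.of R ⟶ A := Spec.preimage (i ≫ f)
  letI : Algebra R A := φ.hom.toAlgebra
  haveI : IsOpenImmersion i :=
    inferInstanceAs (IsOpenImmersion (X.affineCover.f (X.affineCover.idx x)))
  exact ⟨@Ch.mk R _ X f A _ φ.hom.toAlgebra i this (Spec.map_preimage _).symm, p, hp⟩

/-- The base change of `X ⟶ Spec R`. -/
noncomputable abbrev bcs (f : X ⟶ Spec (CommRingCat.of R)) (B : Type u) [CommRing B] [Algebra R B] :
    Scheme.{u} := pullback f (Spec.map (CommRingCat.ofHom (algebraMap R B)))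

variable (c : Ch f) (B : Type u) [CommRing B] [Algebra R B]

/-- The chart `Spec (S ⊗[R] B) ⟶ X_B`. -/
noncomputable def chart : Spec (CommRingCat.of (c.S ⊗[R] B)) ⟶ bcs f B :=
  pullback.lift
    (Spec.map (CommRingCat.ofHom (Algebra.TensorProduct.includeLeftRingHom : c.S →+* c.S ⊗[R] B)) ≫ c.i)
    (Spec.map (CommRingCat.ofHom
      (Algebra.TensorProduct.includeRight : B →ₐ[R] c.S ⊗[R] B).toRingHom)) (by
      rw [Category.assoc, c.hi]
      exact (isPullback_SpecMap_of_isPushout _ _ _ _
        (CommRingCat.isPushout_tensorProduct R c.S B)).w)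

@[reassoc (attr := simp)]
theorem chart_fst : chart c B ≫ pullback.fst _ _ =
    Spec.map (CommRingCat.ofHom (Algebra.TensorProduct.includeLeftRingHom : c.S →+* c.S ⊗[R] B)) ≫ c.i :=
  pullback.lift_fst _ _ _

@[reassoc (attr := simp)]
theorem chart_snd : chart c B ≫ pullback.snd _ _ =
    Spec.map (CommRingCat.ofHom
      (Algebra.TensorProduct.includeRight : B →ₐ[R] c.S ⊗[R] B).toRingHom) :=
  pullback.lift_snd _ _ _

theorem isPullback_chart : IsPullback (chart c B)
    (Spec.map (CommRingCat.ofHom (Algebra.TensorProduct.includeLeftRingHom : c.S →+* c.S ⊗[R] B)))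
    (pullback.fst _ _) c.i := by
  have h1 : IsPullback (pullback.snd _ _) (pullback.fst _ _)
      (Spec.map (CommRingCat.ofHom (algebraMap R B))) f :=
    (IsPullback.of_hasPullback _ _).flip
  have h2 : IsPullback
      (Spec.map (CommRingCat.ofHom
        (Algebra.TensorProduct.includeRight : B →ₐ[R] c.S ⊗[R] B).toRingHom))
      (Spec.map (CommRingCat.ofHom (Algebra.TensorProduct.includeLeftRingHom : c.S →+* c.S ⊗[R] B)))
      (Spec.map (CommRingCat.ofHom (algebraMap R B)))
      (Spec.map (CommRingCat.ofHom (algebraMap R c.S))) :=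
    (isPullback_SpecMap_of_isPushout _ _ _ _
        (CommRingCat.isPushout_tensorProduct R c.S B)).flip
  refine IsPullback.of_right (h₁₂ := pullback.snd _ _) (h₂₂ := f) ?_ (chart_fst c B) h1
  rw [chart_snd, c.hi]
  exact h2

instance : IsOpenImmersion (chart c B) :=
  MorphismProperty.of_isPullback (isPullback_chart c B).flip inferInstance

/-- A point of `X_B` over a point in the chart lies in the chart. -/
theorem exists_chart_eq (y : bcs f B) (p : Spec (CommRingCat.of c.S))
    (hp : c.i p = pullback.fst f (Spec.map (CommRingCat.ofHom (algebraMap R B))) y) :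
    ∃ q : Spec (CommRingCat.of (c.S ⊗[R] B)), chart c B q = y := by
  obtain ⟨q, hq, -⟩ := Scheme.exists_preimage_of_isPullback (isPullback_chart c B) y p hp.symm
  exact ⟨q, hq⟩

/-- the basic open subset of `X_B` given by a chart and an element. -/
noncomputable def bo (h : c.S ⊗[R] B) : Set (bcs f B) :=
  chart c B '' (PrimeSpectrum.basicOpen h : Set (PrimeSpectrum (c.S ⊗[R] B)))

theorem isOpen_bo (h : c.S ⊗[R] B) : IsOpen (bo c B h) :=
  (chart c B).isOpenEmbedding.isOpenMap _ (PrimeSpectrum.basicOpen h).2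

theorem isCompact_bo (h : c.S ⊗[R] B) : IsCompact (bo c B h) :=
  (PrimeSpectrum.isCompact_basicOpen h).image (chart c B).continuous

variable {B} {B' : Type u} [CommRing B'] [Algebra R B'] (φ : B →ₐ[R] B')

/-- Compatibility of charts with a change of the base ring. -/
theorem chart_comp (π : bcs f B' ⟶ bcs f B)
    (h1 : π ≫ pullback.fst _ _ = pullback.fst _ _)
    (h2 : π ≫ pullback.snd _ _ = pullback.snd _ _ ≫ Spec.map (CommRingCat.ofHom φ.toRingHom)) :
    chart c B' ≫ π = Spec.map (CommRingCat.ofHom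
      (Algebra.TensorProduct.map (AlgHom.id R c.S) φ).toRingHom) ≫ chart c B := by
  apply pullback.hom_ext
  · rw [Category.assoc, h1, Category.assoc, chart_fst, chart_fst, ← Category.assoc, ← Spec.map_comp]
    congr 2
    apply CommRingCat.hom_ext
    ext x
    simp
  · rw [Category.assoc, h2, Category.assoc, chart_snd, chart_snd_assoc, ← Spec.map_comp,
      ← Spec.map_comp]
    congr 1

theorem preimage_bo (π : bcs f B' ⟶ bcs f B)
    (h1 : π ≫ pullback.fst _ _ = pullback.fst _ _)
    (h2 : π ≫ pullback.snd _ _ = pullback.snd _ _ ≫ Spec.map (CommRingCat.ofHom φ.toRingHom))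
    (h : c.S ⊗[R] B) :
    π ⁻¹' (bo c B h) = bo c B' (Algebra.TensorProduct.map (AlgHom.id R c.S) φ h) := by
  have hc := chart_comp c φ π h1 h2
  have hc' : ∀ q, π (chart c B' q) = chart c B (Spec.map (CommRingCat.ofHom
      (Algebra.TensorProduct.map (AlgHom.id R c.S) φ).toRingHom) q) := by
    intro q
    rw [← Scheme.Hom.comp_apply, hc, Scheme.Hom.comp_apply]
  ext y
  constructor
  · rintro ⟨q', hq', hq''⟩
    have h3 : c.i (Spec.map (CommRingCat.ofHom
        (Algebra.TensorProduct.includeLeftRingHom : c.S →+* c.S ⊗[R] B)) q') =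
        pullback.fst f (Spec.map (CommRingCat.ofHom (algebraMap R B'))) y := by
      rw [← h1, Scheme.Hom.comp_apply, ← hq'', ← Scheme.Hom.comp_apply (chart c B), chart_fst]
      rfl
    obtain ⟨q, rfl⟩ := exists_chart_eq c B' y _ h3
    refine ⟨q, ?_, rfl⟩
    rw [hc'] at hq''
    have h4 := (chart c B).isOpenEmbedding.injective hq''
    rw [h4] at hq'
    exact hq'
  · rintro ⟨q, hq, rfl⟩
    change π (chart c B' q) ∈ bo c B h
    rw [hc']
    exact ⟨_, hq, rfl⟩

/-- A quasi-compact open subset of `X_B` is a finite union of basic opens in charts. -/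
theorem exists_finite_cover (B : Type u) [CommRing B] [Algebra R B] (V : Set (bcs f B))
    (hV : IsOpen V) (hVc : IsCompact V) :
    ∃ (T : Set (Σ c : Ch f, c.S ⊗[R] B)), T.Finite ∧ V = ⋃ t ∈ T, bo t.1 B t.2 := by
  have h1 : ∀ v : V, ∃ t : Σ c : Ch f, c.S ⊗[R] B, v.1 ∈ bo t.1 B t.2 ∧ bo t.1 B t.2 ⊆ V := by
    rintro ⟨v, hv⟩
    obtain ⟨c, p, hp⟩ := exists_ch (f := f)
      (pullback.fst f (Spec.map (CommRingCat.ofHom (algebraMap R B))) v)
    obtain ⟨q, rfl⟩ := exists_chart_eq c B v p hp
    obtain ⟨_, ⟨h, rfl⟩, hq, hsub⟩ :=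
      (PrimeSpectrum.isTopologicalBasis_basic_opens (R := c.S ⊗[R] B)).exists_subset_of_mem_open
        (show q ∈ chart c B ⁻¹' V from hv) (hV.preimage (chart c B).continuous)
    refine ⟨⟨c, h⟩, ⟨q, hq, rfl⟩, ?_⟩
    rintro _ ⟨q', hq', rfl⟩
    exact hsub hq'
  choose t ht1 ht2 using h1
  obtain ⟨s, hs⟩ := hVc.elim_finite_subcover (fun v : V => bo (t v).1 B (t v).2)
    (fun v => isOpen_bo _ _ _) (fun v hv => Set.mem_iUnion.2 ⟨⟨v, hv⟩, ht1 _⟩)
  refine ⟨t '' (s : Set V), s.finite_toSet.image t, ?_⟩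
  apply subset_antisymm
  · intro v hv
    obtain ⟨w, hw⟩ := Set.mem_iUnion.1 (hs hv)
    obtain ⟨hws, hw'⟩ := Set.mem_iUnion.1 hw
    exact Set.mem_biUnion (Set.mem_image_of_mem t hws) hw'
  · intro v hv
    obtain ⟨_, ⟨w, -, rfl⟩, hw⟩ := Set.mem_iUnion₂.1 hv
    exact ht2 w hw

/-- An element of `S ⊗ B` involves only finitely many elements of `B`. -/
theorem exists_finset_range (S B : Type u) [CommRing S] [Algebra R S] [CommRing B] [Algebra R B]
    (h : S ⊗[R] B) : ∃ F : Finset B, ∀ (B' : Type u) [CommRing B'] [Algebra R B'] (φ : B' →ₐ[R] B),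
      (∀ b ∈ F, b ∈ φ.range) →
      h ∈ (Algebra.TensorProduct.map (AlgHom.id R S) φ).range := by
  classical
  induction h using TensorProduct.induction_on with
  | zero => exact ⟨∅, fun B' _ _ φ _ => zero_mem _⟩
  | tmul s b =>
    refine ⟨{b}, fun B' _ _ φ hφ => ?_⟩
    obtain ⟨b', hb'⟩ := hφ b (by simp)
    refine ⟨s ⊗ₜ b', ?_⟩
    have : φ b' = b := hb'
    change (Algebra.TensorProduct.map (AlgHom.id R S) φ) (s ⊗ₜ b') = _
    rw [Algebra.TensorProduct.map_tmul, this]
    rfl
  | add x y hx hy =>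
    obtain ⟨F, hF⟩ := hx
    obtain ⟨G, hG⟩ := hy
    refine ⟨F ∪ G, fun B' _ _ φ hφ => add_mem ?_ ?_⟩
    · exact hF B' φ (fun b hb => hφ b (Finset.mem_union_left _ hb))
    · exact hG B' φ (fun b hb => hφ b (Finset.mem_union_right _ hb))

end K419.ChartBC
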