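import Groth.Agent.VarietyA.ResMap

/-!
# Compatibility of `Curv2.stalkMap`, `Curv2.resMap` with morphisms of `k`-schemes
-/

set_option autoImplicit false
universe u
open CategoryTheory CategoryTheory.Limits AlgebraicGeometry

namespace K419.StalkK

theorem stalkMap_comp (k : Type u) [Field k] {X N : Scheme.{u}} [X.Over (Spec (CommRingCat.of k))]
    [N.Over (Spec (CommRingCat.of k))] (f : N ⟶ X)
    (hf : f ≫ (X ↘ (Spec (CommRingCat.of k))) = N ↘ (Spec (CommRingCat.of k))) (x : N) :
    (f.stalkMap x).hom.comp (Curv2.stalkMap k X (f x)) = Curv2.stalkMap k N x := by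
  have h : CommRingCat.ofHom (Curv2.stalkMap k X (f x)) ≫ f.stalkMap x =
      CommRingCat.ofHom (Curv2.stalkMap k N x) := by
    apply Spec.map_injective
    rw [Spec.map_comp, Groth.Agent.VarietyA.ResMap.specMap_stalkMap,
      Groth.Agent.VarietyA.ResMap.specMap_stalkMap, ← hf, Scheme.SpecMap_stalkMap_fromSpecStalk_assoc]
  exact congrArg CommRingCat.Hom.hom h

theorem resMap_comp (k : Type u) [Field k] {X N : Scheme.{u}} [X.Over (Spec (CommRingCat.of k))]
    [N.Over (Spec (CommRingCat.of k))] (f : N ⟶ X)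
    (hf : f ≫ (X ↘ (Spec (CommRingCat.of k))) = N ↘ (Spec (CommRingCat.of k))) (x : N) :
    (f.residueFieldMap x).hom.comp (Curv2.resMap k X (f x)) = Curv2.resMap k N x := by
  have h : CommRingCat.ofHom (Curv2.resMap k X (f x)) ≫ f.residueFieldMap x =
      CommRingCat.ofHom (Curv2.resMap k N x) := by
    apply Spec.map_injective
    rw [Spec.map_comp, Groth.Agent.VarietyA.ResMap.specMap_resMap,
      Groth.Agent.VarietyA.ResMap.specMap_resMap, ← hf, Scheme.Hom.SpecMap_residueFieldMap_fromSpecResidueField_assoc]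
  exact congrArg CommRingCat.Hom.hom h

end K419.StalkK
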