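import Groth.Agent.VarietyB.FibreGeneric
import Groth.Agent.Ega43.EquidimFibre
import Mathlib.RingTheory.LocalRing.ResidueField.Fiber
import Mathlib.AlgebraicGeometry.Fiber

/-!
# Dimension of fibres through charts
-/

set_option autoImplicit false
universe u
open CategoryTheory CategoryTheory.Limits AlgebraicGeometry TensorProduct

namespace K419.FibreChart

/-- On a scheme locally of finite type over a field, a nonempty open subset contained in an irreducible closed subset
`closure {x}` has the same dimension. -/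
theorem dim_open_subset_closure (k : Type u) [Field k] (X : Scheme.{u}) [X.Over (Spec (CommRingCat.of k))]
    [LocallyOfFiniteType (X ↘ (Spec (CommRingCat.of k)))] (Z : Set X) (hZc : IsClosed Z)
    (hZ : IsIrreducible Z) (o : Set X) (ho : IsOpen o) (hne : o.Nonempty) (hoZ : o ⊆ Z) :
    topologicalKrullDim Z = topologicalKrullDim o := by
  let C : TopologicalSpace.Closeds X := ⟨Z, hZc⟩
  let I := Scheme.IdealSheafData.vanishingIdeal C
  let W := I.subscheme
  let ι : W ⟶ X := I.subschemeι
  let _ : W.Over (Spec (CommRingCat.of k)) := ⟨ι ≫ (X ↘ (Spec (CommRingCat.of k)))⟩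
  have : LocallyOfFiniteType (W ↘ (Spec (CommRingCat.of k))) :=
    inferInstanceAs (LocallyOfFiniteType (ι ≫ (X ↘ (Spec (CommRingCat.of k)))))
  have hr : Set.range ι = Z := by
    rw [Scheme.IdealSheafData.range_subschemeι, Scheme.IdealSheafData.coe_support_vanishingIdeal]
    rfl
  let e : W ≃ₜ Z := (ι.isEmbedding.toHomeomorph).trans (Homeomorph.setCongr hr)
  have h1 : topologicalKrullDim W = topologicalKrullDim Z :=
    IsHomeomorph.topologicalKrullDim_eq e e.isHomeomorph
  have hirr : IrreducibleSpace Z := Subtype.irreducibleSpace hZ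
  have : IrreducibleSpace W := e.symm.surjective.irreducibleSpace e.symm.continuous
  let U : W.Opens := ι ⁻¹ᵁ ⟨o, ho⟩
  have hU : (U : Set W).Nonempty := by
    obtain ⟨x, hx⟩ := hne
    have : x ∈ Set.range ι := by rw [hr]; exact hoZ hx
    obtain ⟨w, rfl⟩ := this
    exact ⟨w, hx⟩
  have h2 := Groth.Agent.S1618.result k W U hU
  have e' : (ι ⁻¹' o : Set W) ≃ₜ o := ι.isEmbedding.homeomorphOfSubsetRange (by rw [hr]; exact hoZ)
  rw [← h1, ← h2]
  exact IsHomeomorph.topologicalKrullDim_eq e' e'.isHomeomorph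

theorem comp_apply_eq {R S : Type u} [CommRing R] [CommRing S] [Algebra R S] {X : Scheme.{u}}
    (f : X ⟶ Spec (CommRingCat.of R)) (g : Spec (CommRingCat.of S) ⟶ X)
    (hgf : g ≫ f = Spec.map (CommRingCat.ofHom (algebraMap R S)))
    (x : ↥(Spec (CommRingCat.of S))) :
    f (g x) = PrimeSpectrum.comap (algebraMap R S) x := by
  rw [← Scheme.Hom.comp_apply, hgf]
  rfl

theorem dim_fibre_eq {X Y : Scheme.{u}} (f : X ⟶ Y) (t : Y) (T : Set X) :
    topologicalKrullDim ((f.fiberι t) ⁻¹' T : Set (f.fiber t)) =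
      topologicalKrullDim (f ⁻¹' {t} ∩ T : Set X) := by
  have h3 : (f.fiberι t) ⁻¹' T = (f.fiberι t) ⁻¹' (f ⁻¹' {t} ∩ T) := by
    ext x
    constructor
    · intro hx
      refine ⟨?_, hx⟩
      rw [← f.range_fiberι t]
      exact ⟨x, rfl⟩
    · exact fun hx => hx.2
  have e3 : ((f.fiberι t) ⁻¹' (f ⁻¹' {t} ∩ T) : Set (f.fiber t)) ≃ₜ
      (f ⁻¹' {t} ∩ T : Set X) :=
    (f.fiberι t).isEmbedding.homeomorphOfSubsetRange (by
      rw [f.range_fiberι t]; exact Set.inter_subset_left)
  rw [h3, IsHomeomorph.topologicalKrullDim_eq e3 e3.isHomeomorph]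

/-- the part of a fibre inside the range of an embedding `g : Spec S ⟶ X`. -/
theorem dim_fibre_chart {R S : Type u} [CommRing R] [CommRing S] [Algebra R S] {X : Scheme.{u}}
    (f : X ⟶ Spec (CommRingCat.of R)) (g : Spec (CommRingCat.of S) ⟶ X)
    (hg : Topology.IsEmbedding g) (hgf : g ≫ f = Spec.map (CommRingCat.ofHom (algebraMap R S)))
    (s : PrimeSpectrum R) :
    topologicalKrullDim ((f.fiberι s) ⁻¹' (Set.range g) : Set (f.fiber s)) =
      ringKrullDim (s.asIdeal.Fiber S) := by
  have e1 := PrimeSpectrum.preimageHomeomorphFiber R S s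
  have h1 : ringKrullDim (s.asIdeal.Fiber S) =
      topologicalKrullDim (PrimeSpectrum.comap (algebraMap R S) ⁻¹' {s} : Set (PrimeSpectrum S)) := by
    rw [← PrimeSpectrum.topologicalKrullDim_eq_ringKrullDim]
    exact (IsHomeomorph.topologicalKrullDim_eq e1 e1.isHomeomorph).symm
  let t : ↥(Spec (CommRingCat.of R)) := s
  have h2 : (PrimeSpectrum.comap (algebraMap R S) ⁻¹' {s} : Set (PrimeSpectrum S)) =
      g ⁻¹' (f ⁻¹' {t} ∩ Set.range g) := by
    ext x
    have h3 := comp_apply_eq f g hgf x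
    constructor
    · intro hx
      exact ⟨h3.trans hx, x, rfl⟩
    · rintro ⟨hx, -⟩
      exact h3.symm.trans hx
  have e2 : (g ⁻¹' (f ⁻¹' {t} ∩ Set.range g) : Set (Spec (CommRingCat.of S))) ≃ₜ
      (f ⁻¹' {t} ∩ Set.range g : Set X) :=
    hg.homeomorphOfSubsetRange Set.inter_subset_right
  have h4 : topologicalKrullDim ((f.fiberι t) ⁻¹' (Set.range g) : Set (f.fiber t)) =
      topologicalKrullDim (f ⁻¹' {t} ∩ Set.range g : Set X) := dim_fibre_eq f t _
  refine h4.trans ?_
  rw [h1, ← IsHomeomorph.topologicalKrullDim_eq e2 e2.isHomeomorph]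
  exact (congrArg (fun t : Set (PrimeSpectrum S) => topologicalKrullDim t) h2).symm

end K419.FibreChart
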