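import Groth.Agent.Sga7.H132.ProjPts
import Mathlib.GroupTheory.CosetCover

/-!
# Linear forms and field-valued points of projective space
-/

set_option autoImplicit false
universe u

open CategoryTheory AlgebraicGeometry MvPolynomial HomogeneousLocalization

namespace K419.PnRat

open Groth.Agent.Sga5.ProjChart Groth.Agent.Sga7.H132.ProjPts

variable (n : ℕ) (k : Type u) [CommRing k]

/-- The linear form with coefficients `c`. -/
noncomputable def lin (c : Fin (n + 1) → k) : CohB1.polyGrading n k 1 :=
  ⟨∑ j, C (c j) * X j, Submodule.sum_mem _ fun j _ => by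
    have h1 : (C (c j) : MvPolynomial (Fin (n + 1)) k) * X j = c j • X j := by
      rw [MvPolynomial.smul_eq_C_mul]
    rw [h1]
    exact Submodule.smul_mem _ _ (X_mem n k j)⟩

lemma val_lin (c : Fin (n + 1) → k) : (lin n k c).1 = ∑ j, C (c j) * X j := rfl

/-- the quotient of a linear form by `X i` -/
lemma isLocalizationElem_lin (i : Fin (n + 1)) (c : Fin (n + 1) → k) :
    Away.isLocalizationElem (X_mem n k i) (lin n k c).2 =
      ∑ j, chartC n k i (c j) * coord n k i j := by
  apply HomogeneousLocalization.val_injective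
  have h1 : (∑ j, chartC n k i (c j) * coord n k i j : Chart n k i).val =
      ∑ j, (chartC n k i (c j)).val * (coord n k i j).val := by
    have := map_sum (algebraMap (Chart n k i) (Localization.Away (X i : MvPolynomial (Fin (n + 1)) k)))
      (fun j => chartC n k i (c j) * coord n k i j) Finset.univ
    refine this.trans ?_
    refine Finset.sum_congr rfl fun j _ => ?_
    exact map_mul (algebraMap (Chart n k i) (Localization.Away (X i : MvPolynomial (Fin (n + 1)) k))) _ _
  have hu : IsUnit (aM n k i (X i)) := IsLocalization.Away.algebraMap_isUnit _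
  rw [h1, ← hu.mul_left_inj, Finset.sum_mul]
  simp_rw [mul_assoc, val_coord_mul, val_chartC]
  rw [Away.isLocalizationElem, Away.val_mk]
  have h2 : aM n k i (lin n k c).1 = ∑ j, aM n k i (C (c j)) * aM n k i (X j) := by
    rw [val_lin, map_sum]
    simp_rw [map_mul]
  rw [← h2, ← Localization.mk_one_eq_algebraMap, Localization.mk_mul,
    ← Localization.mk_one_eq_algebraMap, Localization.mk_eq_mk_iff, Localization.r_iff_exists]
  refine ⟨1, ?_⟩
  simp
  ring

theorem mem_basicOpen_lin_iff {L : Type u} [Field L] (i : Fin (n + 1)) (χ : Chart n k i →+* L)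
    (c : Fin (n + 1) → k) (x : Spec (CommRingCat.of L)) :
    (Spec.map (CommRingCat.ofHom χ) ≫ chart n k i) x ∈
      Proj.basicOpen (CohB1.polyGrading n k) (lin n k c).1 ↔
      ∑ j, χ (chartC n k i (c j)) * χ (coord n k i j) ≠ 0 := by
  have h1 : (Spec.map (CommRingCat.ofHom χ) ≫ chart n k i) x =
      chart n k i (Spec.map (CommRingCat.ofHom χ) x) := rfl
  have h2 := Proj.awayι_preimage_basicOpen (CohB1.polyGrading n k) (X_mem n k i) one_pos (lin n k c).2
    one_pos
  have h3 : (chart n k i (Spec.map (CommRingCat.ofHom χ) x)) ∈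
      Proj.basicOpen (CohB1.polyGrading n k) (lin n k c).1 ↔
      Spec.map (CommRingCat.ofHom χ) x ∈ (chart n k i) ⁻¹ᵁ
        (Proj.basicOpen (CohB1.polyGrading n k) (lin n k c).1) := Iff.rfl
  rw [h1, h3]
  change _ ∈ Proj.awayι (CohB1.polyGrading n k) (X i) (X_mem n k i) one_pos ⁻¹ᵁ _ ↔ _
  rw [h2, isLocalizationElem_lin]
  have h4 : (Spec.map (CommRingCat.ofHom χ) x) ∈ PrimeSpectrum.basicOpen
      (∑ j, chartC n k i (c j) * coord n k i j) ↔
      χ (∑ j, chartC n k i (c j) * coord n k i j) ∉ (x : PrimeSpectrum L).asIdeal := Iff.rfl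
  have h5 : (x : PrimeSpectrum L).asIdeal = ⊥ := by
    haveI : (PrimeSpectrum.asIdeal (R := L) x).IsPrime := PrimeSpectrum.isPrime x
    exact Ideal.eq_bot_of_prime _
  rw [h5, map_sum] at h4
  simp_rw [map_mul] at h4
  exact h4

/-- Two ring maps out of a chart ring agreeing on constants and coordinates are equal. -/
theorem chart_ringHom_ext (i : Fin (n + 1)) {B : Type*} [CommRing B] (f g : Chart n k i →+* B)
    (h1 : ∀ c, f (chartC n k i c) = g (chartC n k i c))
    (h2 : ∀ j, f (coord n k i j) = g (coord n k i j)) : f = g := by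
  have h3 : f.comp (chartEquiv n k i).toRingHom = g.comp (chartEquiv n k i).toRingHom := by
    apply MvPolynomial.ringHom_ext
    · intro c
      change f (chartEquiv n k i (C c)) = g (chartEquiv n k i (C c))
      rw [chartEquiv_C, h1]
    · intro j
      change f (chartEquiv n k i (X j)) = g (chartEquiv n k i (X j))
      rw [chartEquiv_X, h2]
  ext z
  obtain ⟨w, rfl⟩ := (chartEquiv n k i).surjective z
  exact RingHom.congr_fun h3 w

/-- Two field-valued points, the first one rational: if every linear form vanishing at the first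
one vanishes at the second one then they have the same image. -/
theorem eq_of_forall {k : Type u} [Field k] {L₀ L : Type u} [Field L₀] [Field L]
    (i₀ i : Fin (n + 1)) (χ₀ : Chart n k i₀ →+* L₀) (χ : Chart n k i →+* L)
    (hs : Function.Surjective (χ₀.comp (chartC n k i₀)))
    (h : ∀ c : Fin (n + 1) → k, ∑ j, χ₀ (chartC n k i₀ (c j)) * χ₀ (coord n k i₀ j) = 0 →
      ∑ j, χ (chartC n k i (c j)) * χ (coord n k i j) = 0)
    (x₀ : Spec (CommRingCat.of L₀)) (x : Spec (CommRingCat.of L)) :
    (Spec.map (CommRingCat.ofHom χ₀) ≫ chart n k i₀) x₀ =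
      (Spec.map (CommRingCat.ofHom χ) ≫ chart n k i) x := by
  classical
  have hs' : ∀ j, ∃ a : k, χ₀ (chartC n k i₀ a) = χ₀ (coord n k i₀ j) := fun j => hs _
  choose a ha using hs'
  -- the forms `X_j - a_j X_{i₀}`
  have h1 : ∀ j, χ (coord n k i j) = χ (chartC n k i (a j)) * χ (coord n k i i₀) := by
    intro j
    have h2 := h (Pi.single j 1 - Pi.single i₀ (a j)) (by
      simp only [Pi.sub_apply, map_sub, sub_mul, Finset.sum_sub_distrib]
      rw [Finset.sum_eq_single j, Finset.sum_eq_single i₀]
      · simp [ha, coord_self]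
      · intro b _ hb
        simp [Pi.single_eq_of_ne hb]
      · simp
      · intro b _ hb
        simp [Pi.single_eq_of_ne hb]
      · simp)
    simp only [Pi.sub_apply, map_sub, sub_mul, Finset.sum_sub_distrib] at h2
    rw [Finset.sum_eq_single j, Finset.sum_eq_single i₀] at h2
    · simpa [sub_eq_zero] using h2
    · intro b _ hb
      simp [Pi.single_eq_of_ne hb]
    · simp
    · intro b _ hb
      simp [Pi.single_eq_of_ne hb]
    · simp
  have h2 : χ (coord n k i i₀) ≠ 0 := by
    intro h3
    have h4 := h1 i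
    rw [h3, mul_zero, coord_self, map_one] at h4
    exact one_ne_zero h4
  obtain ⟨χ', hχ', hχ''⟩ := exists_transition n k i i₀ χ h2
  have h3 : ∀ l, χ' (coord n k i₀ l) = χ (chartC n k i (a l)) := by
    intro l
    have := hχ'' l
    rw [h1 l] at this
    exact mul_right_cancel₀ h2 this
  have hC : χ'.comp (chartC n k i₀) = χ.comp (chartC n k i) := by
    have h4 := congrArg (fun t => t ≫ CohB1.ProjSpace.toSpec n k) hχ'
    simp only [Category.assoc, chart_toSpec, ← Spec.map_comp] at h4
    have h5 := Spec.map_injective h4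
    exact congrArg CommRingCat.Hom.hom h5
  -- the ring map `k → L` composed with the value at `x₀`
  let e : k ≃+* L₀ := RingEquiv.ofBijective (χ₀.comp (chartC n k i₀))
    ⟨(χ₀.comp (chartC n k i₀)).injective, hs⟩
  have he : ∀ c, e.symm (χ₀ (chartC n k i₀ c)) = c := fun c => e.symm_apply_apply c
  let τ : L₀ →+* L := (χ.comp (chartC n k i)).comp e.symm.toRingHom
  have h6 : τ.comp χ₀ = χ' := by
    apply chart_ringHom_ext
    · intro c
      change χ (chartC n k i (e.symm (χ₀ (chartC n k i₀ c)))) = _
      rw [he]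
      exact (RingHom.congr_fun hC c).symm
    · intro j
      change χ (chartC n k i (e.symm (χ₀ (coord n k i₀ j)))) = _
      rw [h3, ← ha j, he]
  rw [← hχ', ← h6, CommRingCat.ofHom_comp, Spec.map_comp, Category.assoc]
  have h7 : Spec.map (CommRingCat.ofHom τ) x = x₀ := Subsingleton.elim _ _
  rw [Scheme.Hom.comp_apply (Spec.map (CommRingCat.ofHom τ)), h7]

end K419.PnRat
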