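import Groth.Agent.VarietyA.StalkBC
import Groth.Agent.Variety.K419.StalkK
import Mathlib.RingTheory.Flat.Localization
import Mathlib.RingTheory.RingHom.Flat

/-!
# The local ring of `X_K` at `y` is a localization of `𝒪_{X,x} ⊗[k] K`
-/

set_option autoImplicit false
universe u
open CategoryTheory CategoryTheory.Limits AlgebraicGeometry TensorProduct

namespace K419.StalkLoc

/-- A local ring which is flat over `R` with `Spec S ⟶ Spec R` a monomorphism is a localization of
`R` at a prime ideal. -/
theorem isLocalization_of_mono_of_flat {R S : Type u} [CommRing R] [CommRing S] [IsLocalRing S]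
    [Algebra R S] [Module.Flat R S] (hm : Mono (Spec.map (CommRingCat.ofHom (algebraMap R S)))) :
    IsLocalization.AtPrime S ((IsLocalRing.maximalIdeal S).comap (algebraMap R S)) := by
  set q := (IsLocalRing.maximalIdeal S).comap (algebraMap R S) with hq
  have hu : ∀ s : q.primeCompl, IsUnit (algebraMap R S s) := by
    intro s
    by_contra h
    exact s.2 ((IsLocalRing.mem_maximalIdeal _).2 h)
  let g : Localization.AtPrime q →+* S := IsLocalization.lift hu
  letI : Algebra (Localization.AtPrime q) S := g.toAlgebra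
  haveI : IsScalarTower R (Localization.AtPrime q) S := IsScalarTower.of_algebraMap_eq' (by
    ext r
    exact (IsLocalization.lift_eq hu r).symm)
  have hg : algebraMap (Localization.AtPrime q) S = g := rfl
  haveI : Module.Flat (Localization.AtPrime q) S :=
    (Module.flat_iff_of_isLocalization (Localization.AtPrime q) q.primeCompl S).2 inferInstance
  haveI : IsLocalHom g := by
    refine ⟨fun a ha => ?_⟩
    obtain ⟨r, s, rfl⟩ := IsLocalization.exists_mk'_eq q.primeCompl a
    have h1 : IsUnit (algebraMap R S r) := by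
      have h2 : g (IsLocalization.mk' _ r s) * algebraMap R S s = algebraMap R S r := by
        have h5 : g (algebraMap R _ (s : R)) = algebraMap R S s := IsLocalization.lift_eq hu _
        rw [← h5, ← map_mul, IsLocalization.mk'_spec]
        exact IsLocalization.lift_eq hu _
      rw [← h2]
      exact ha.mul (hu s)
    have h3 : r ∈ q.primeCompl := by
      intro h4
      exact (IsLocalRing.mem_maximalIdeal _).1 h4 h1
    exact (IsLocalization.AtPrime.isUnit_mk'_iff (Localization.AtPrime q) q r s).2 h3
  haveI : IsLocalHom (algebraMap (Localization.AtPrime q) S) := by rw [hg]; infer_instance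
  haveI : Module.FaithfullyFlat (Localization.AtPrime q) S :=
    Module.FaithfullyFlat.of_flat_of_isLocalHom
  have h1 : Spec.map (CommRingCat.ofHom g) ≫
      Spec.map (CommRingCat.ofHom (algebraMap R (Localization.AtPrime q))) =
      Spec.map (CommRingCat.ofHom (algebraMap R S)) := by
    rw [← Spec.map_comp, ← CommRingCat.ofHom_comp]
    congr 2
    ext r
    exact IsLocalization.lift_eq hu r
  haveI : Mono (Spec.map (CommRingCat.ofHom g)) := mono_of_mono_fac h1
  have h3 : (CommRingCat.ofHom g).hom.FaithfullyFlat := by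
    change (algebraMap (Localization.AtPrime q) S).FaithfullyFlat
    rw [RingHom.faithfullyFlat_algebraMap_iff]
    infer_instance
  obtain ⟨h4, h5⟩ := (flat_and_surjective_SpecMap_iff (CommRingCat.ofHom g)).2 h3
  haveI : IsIso (Spec.map (CommRingCat.ofHom g)) := Flat.isIso_of_surjective_of_mono _
  have h7 : Function.Bijective g := (isIso_SpecMap_iff (f := CommRingCat.ofHom g)).1 inferInstance
  have e : Localization.AtPrime q ≃ₐ[R] S :=
    AlgEquiv.ofBijective (IsScalarTower.toAlgHom R (Localization.AtPrime q) S) h7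
  exact IsLocalization.isLocalization_of_algEquiv q.primeCompl e

/-- If `j : W ⟶ Z` is a monomorphism, `g ≫ j = h` and `h` is flat then `g` is flat. -/
theorem flat_of_comp_mono {V W Z : Scheme.{u}} (g : V ⟶ W) (j : W ⟶ Z) [Mono j] (h : V ⟶ Z)
    [Flat h] (e : g ≫ j = h) : Flat g := by
  have hp : IsPullback (𝟙 V) g h j := by
    refine ⟨⟨by simp [e]⟩, ⟨PullbackCone.IsLimit.mk _ (fun s => s.fst) (fun s => by simp)
      (fun s => ?_) (fun s m h1 _ => by simpa using h1)⟩⟩
    rw [← cancel_mono j, Category.assoc, e, s.condition]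
  exact MorphismProperty.of_isPullback hp inferInstance

variable (k : Type u) [Field k] (X : Scheme.{u}) [X.Over (Spec (CommRingCat.of k))]
  (K : Type u) [Field K] [Algebra k K]

attribute [local instance] Curv2.stalkAlgebra

theorem algebraMap_eq (x : X) :
    algebraMap k (X.presheaf.stalk x) =
      Groth.Agent.VarietyA.StalkBC.stalkRingHom (X ↘ Spec (CommRingCat.of k)) x := rfl

/-- The ring map `𝒪_{X,x} ⊗[k] K → 𝒪_{X_K,y}`, `x` the image of `y`. -/
theorem exists_theta (y : ↥(Curv2.bc k X K)) :
    letI : (Curv2.bc k X K).Over (Spec (CommRingCat.of K)) := ⟨Curv2.bcSnd k X K⟩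
    ∃ θ : (X.presheaf.stalk (Curv2.bcFst k X K y)) ⊗[k] K →+* (Curv2.bc k X K).presheaf.stalk y,
      θ.comp (Algebra.TensorProduct.includeLeftRingHom) = ((Curv2.bcFst k X K).stalkMap y).hom ∧
      θ.comp (Algebra.TensorProduct.includeRight (R := k)
        (A := X.presheaf.stalk (Curv2.bcFst k X K y)) (B := K)).toRingHom =
          Curv2.stalkMap K (Curv2.bc k X K) y ∧
      θ.Flat ∧
      letI := θ.toAlgebra
      IsLocalization.AtPrime ((Curv2.bc k X K).presheaf.stalk y)
        ((IsLocalRing.maximalIdeal ((Curv2.bc k X K).presheaf.stalk y)).comap θ) := by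
  letI : (Curv2.bc k X K).Over (Spec (CommRingCat.of K)) := ⟨Curv2.bcSnd k X K⟩
  set x := Curv2.bcFst k X K y with hx
  have hpo := CommRingCat.isPushout_tensorProduct k (X.presheaf.stalk x) K
  have hw : CommRingCat.ofHom (algebraMap k (X.presheaf.stalk x)) ≫ (Curv2.bcFst k X K).stalkMap y =
      CommRingCat.ofHom (algebraMap k K) ≫
        CommRingCat.ofHom (Curv2.stalkMap K (Curv2.bc k X K) y) := by
    apply Spec.map_injective
    rw [Spec.map_comp, Spec.map_comp]
    have h1 := Groth.Agent.VarietyA.ResMap.specMap_stalkMap k X x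
    have h2 := Groth.Agent.VarietyA.ResMap.specMap_stalkMap K (Curv2.bc k X K) y
    have h3 : CommRingCat.ofHom (algebraMap k (X.presheaf.stalk x)) =
      CommRingCat.ofHom (Curv2.stalkMap k X x) := rfl
    rw [h3, h1, h2, Scheme.SpecMap_stalkMap_fromSpecStalk_assoc, Category.assoc]
    congr 1
    exact pullback.condition
  let θc := hpo.desc ((Curv2.bcFst k X K).stalkMap y)
    (CommRingCat.ofHom (Curv2.stalkMap K (Curv2.bc k X K) y)) hw
  have hl := hpo.inl_desc ((Curv2.bcFst k X K).stalkMap y)
    (CommRingCat.ofHom (Curv2.stalkMap K (Curv2.bc k X K) y)) hw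
  have hr := hpo.inr_desc ((Curv2.bcFst k X K).stalkMap y)
    (CommRingCat.ofHom (Curv2.stalkMap K (Curv2.bc k X K) y)) hw
  have hT : Spec.map θc ≫ Groth.Agent.VarietyA.StalkBC.specTensorTo
      (X ↘ Spec (CommRingCat.of k)) K x (algebraMap_eq k X x) =
      (Curv2.bc k X K).fromSpecStalk y := by
    apply pullback.hom_ext
    · rw [Category.assoc, Groth.Agent.VarietyA.StalkBC.specTensorTo_fst, ← Category.assoc,
        ← Spec.map_comp]
      have : (Groth.Agent.VarietyA.StalkBC.inl (R := k) K x) ≫ θc =
        (Curv2.bcFst k X K).stalkMap y := hl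
      rw [this]
      exact Scheme.SpecMap_stalkMap_fromSpecStalk _
    · rw [Category.assoc, Groth.Agent.VarietyA.StalkBC.specTensorTo_snd, ← Spec.map_comp]
      have : (Groth.Agent.VarietyA.StalkBC.inr (R := k) K x) ≫ θc =
        CommRingCat.ofHom (Curv2.stalkMap K (Curv2.bc k X K) y) := hr
      rw [this]
      exact Groth.Agent.VarietyA.ResMap.specMap_stalkMap K (Curv2.bc k X K) y
  haveI hf : Flat (Spec.map θc) := flat_of_comp_mono _ _ _ hT
  haveI hm : Mono (Spec.map θc) := mono_of_mono_fac hT
  have hfl : θc.hom.Flat := Flat.SpecMap_iff.1 hf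
  refine ⟨θc.hom, congrArg CommRingCat.Hom.hom hl, congrArg CommRingCat.Hom.hom hr, hfl, ?_⟩
  letI := θc.hom.toAlgebra
  haveI : Module.Flat ((X.presheaf.stalk x) ⊗[k] K) ((Curv2.bc k X K).presheaf.stalk y) := hfl
  exact isLocalization_of_mono_of_flat (R := (X.presheaf.stalk x) ⊗[k] K)
    (S := (Curv2.bc k X K).presheaf.stalk y) hm

end K419.StalkLoc
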