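import Groth.Agent.Variety.K419.StratChain
import Groth.Agent.S1629
import Groth.Agent.S1549
import Groth.Agent.Flat2G.AffStratNoeth
import Groth.Agent.EtpbcA.CdFinDim

/-!
# Purely inseparable extensions and smooth stratifications
-/

set_option autoImplicit false
universe u
open CategoryTheory CategoryTheory.Limits AlgebraicGeometry Topology TopologicalSpace

namespace K419.StratInd

open K419.StratChain

/-- After a finite purely inseparable extension, every base change of `f` has a chain. -/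
def Strat {k : Type u} [Field k] {X : Scheme.{u}} (f : X ⟶ Spec (CommRingCat.of k)) : Prop :=
  ∃ (k' : Type u) (_ : Field k') (_ : Algebra k k') (_ : FiniteDimensional k k')
    (_ : IsPurelyInseparable k k'), ∀ (W : Scheme.{u}) (a : W ⟶ X) (b : W ⟶ Spec (CommRingCat.of k')),
      IsPullback a b f (Spec.map (CommRingCat.ofHom (algebraMap k k'))) → Chain b

theorem strat_of_isEmpty {k : Type u} [Field k] {X : Scheme.{u}} (f : X ⟶ Spec (CommRingCat.of k))
    [IsEmpty X] : Strat f :=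
  ⟨k, inferInstance, inferInstance, inferInstance, inferInstance, fun W a b _ =>
    have : IsEmpty W := ⟨fun x => isEmptyElim (a x)⟩
    chain_of_isEmpty b⟩

/-- The tower step: a geometrically reduced surjective closed subscheme over `k₁` with a smooth open
subscheme, and a chain for the complement after a further extension. -/
theorem chain_of_tower {S₁ S₂ X₁ Z₁ T₁ W : Scheme.{u}} (f₁ : X₁ ⟶ S₁) (e : S₂ ⟶ S₁)
    (z₁ : Z₁ ⟶ X₁) [IsClosedImmersion z₁] [Surjective z₁] (t₁ : T₁ ⟶ Z₁) [IsClosedImmersion t₁]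
    (U₁ : Z₁.Opens) (hU₁ : ∀ x : Z₁, x ∈ U₁ ↔ x ∉ Set.range t₁) (hsm : Smooth (U₁.ι ≫ z₁ ≫ f₁))
    (hred : ∀ (Z : Scheme.{u}) (p : Z ⟶ Z₁) (q : Z ⟶ S₂), IsPullback p q (z₁ ≫ f₁) e → IsReduced Z)
    (hch : ∀ (T : Scheme.{u}) (p : T ⟶ T₁) (q : T ⟶ S₂), IsPullback p q ((t₁ ≫ z₁) ≫ f₁) e → Chain q)
    (a : W ⟶ X₁) (b : W ⟶ S₂) (hpb : IsPullback a b f₁ e) : Chain b := by
  let Z := pullback a z₁
  let z : Z ⟶ W := pullback.fst a z₁
  let aZ : Z ⟶ Z₁ := pullback.snd a z₁
  have hZpb : IsPullback aZ z z₁ a := (IsPullback.of_hasPullback a z₁).flip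
  let T := pullback aZ t₁
  let t : T ⟶ Z := pullback.fst aZ t₁
  let aT : T ⟶ T₁ := pullback.snd aZ t₁
  have hTpb : IsPullback aT t t₁ aZ := (IsPullback.of_hasPullback aZ t₁).flip
  have hZ : IsPullback aZ (z ≫ b) (z₁ ≫ f₁) e := hZpb.paste_vert hpb
  have hT : IsPullback aT ((t ≫ z) ≫ b) ((t₁ ≫ z₁) ≫ f₁) e := by
    have := hTpb.paste_vert hZ
    simpa only [Category.assoc] using this
  have hZr : IsReduced Z := hred Z _ _ hZ
  have hc : IsClosedImmersion z := inferInstance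
  have hs : Surjective z := inferInstance
  have ht : IsClosedImmersion t := inferInstance
  refine chain_of_step b z (t ≫ z) (aZ ⁻¹ᵁ U₁) ?_ ?_ (hch T _ _ hT)
  · intro x
    change aZ x ∈ U₁ ↔ _
    rw [hU₁, not_iff_not]
    constructor
    · rintro ⟨y, hy⟩
      obtain ⟨w, hw⟩ := Scheme.Pullback.exists_preimage_pullback x y hy.symm
      refine ⟨w, ?_⟩
      rw [Scheme.Hom.comp_apply]
      exact congrArg z hw.1
    · rintro ⟨w, hw⟩
      rw [Scheme.Hom.comp_apply] at hw
      have := z.isClosedEmbedding.injective hw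
      refine ⟨aT w, ?_⟩
      rw [← this, ← Scheme.Hom.comp_apply, ← Scheme.Hom.comp_apply, hTpb.w]
  · have h1 : IsPullback (aZ ∣_ U₁) (aZ ⁻¹ᵁ U₁).ι U₁.ι aZ := isPullback_morphismRestrict aZ U₁
    have h2 := h1.paste_vert hZ
    exact MorphismProperty.of_isPullback h2 hsm

theorem step {k : Type u} [Field k] {X : Scheme.{u}} (f : X ⟶ Spec (CommRingCat.of k))
    [LocallyOfFiniteType f] [QuasiCompact f] (n : ℕ)
    (ih : ∀ (k₁ : Type u) [Field k₁] (T : Scheme.{u}) (g : T ⟶ Spec (CommRingCat.of k₁))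
      [LocallyOfFiniteType g] [QuasiCompact g], topologicalKrullDim T < (n : WithBot ℕ∞) → Strat g)
    (hX : topologicalKrullDim X < ((n + 1 : ℕ) : WithBot ℕ∞)) : Strat f := by
  letI : X.Over (Spec (CommRingCat.of k)) := ⟨f⟩
  have hft : LocallyOfFiniteType (X ↘ (Spec (CommRingCat.of k))) := ‹LocallyOfFiniteType f›
  have hnoeth : IsLocallyNoetherian X := LocallyOfFiniteType.isLocallyNoetherian f
  have hcpt : CompactSpace X := (quasiCompact_iff_compactSpace f).mp inferInstance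
  have hN : IsNoetherian X := {}
  obtain ⟨k₁, _, _, hfd₁, hpi₁, hgr⟩ := Groth.Agent.S1629.result k X
    (TopologicalSpace.NoetherianSpace.finite_irreducibleComponents)
  let X₁ : Scheme.{u} := Curv2.bc k X k₁
  let p₁ : X₁ ⟶ X := Curv2.bcFst k X k₁
  let f₁ : X₁ ⟶ Spec (CommRingCat.of k₁) := Curv2.bcSnd k X k₁
  have hpb₁ : IsPullback p₁ f₁ f (Spec.map (CommRingCat.ofHom (algebraMap k k₁))) :=
    IsPullback.of_hasPullback _ _
  have hf₁ : LocallyOfFiniteType f₁ := MorphismProperty.of_isPullback hpb₁ ‹LocallyOfFiniteType f›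
  have hf₁' : QuasiCompact f₁ := MorphismProperty.of_isPullback hpb₁ ‹QuasiCompact f›
  let Z₁ : Scheme.{u} := X₁.nilradical.subscheme
  let z₁ : Z₁ ⟶ X₁ := X₁.nilradical.subschemeι
  have hZred : IsReduced Z₁ := Groth.Agent.Ega1.ReducedSub.isReduced_subscheme_radical ⊥
  have hzsurj : Surjective z₁ := by
    refine ⟨?_⟩
    rw [← Set.range_eq_univ, Scheme.IdealSheafData.range_subschemeι, Scheme.support_nilradical]
    rfl
  letI : Z₁.Over (Spec (CommRingCat.of k₁)) := ⟨z₁ ≫ f₁⟩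
  have hft₁ : LocallyOfFiniteType (Z₁ ↘ (Spec (CommRingCat.of k₁))) :=
    inferInstanceAs (LocallyOfFiniteType (z₁ ≫ f₁))
  have hgr' : GeometricallyReduced (z₁ ≫ f₁) := hgr
  obtain ⟨U₁, hU₁d, hU₁⟩ := (Groth.Agent.S1549.result k₁ Z₁).mp hgr
  let V₁ : Z₁.IdealSheafData := Scheme.IdealSheafData.vanishingIdeal U₁.compl
  let T₁ : Scheme.{u} := V₁.subscheme
  let t₁ : T₁ ⟶ Z₁ := V₁.subschemeι
  have ht₁ : Set.range t₁ = (U₁ : Set Z₁)ᶜ := by
    rw [Scheme.IdealSheafData.range_subschemeι, Scheme.IdealSheafData.coe_support_vanishingIdeal]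
    rfl
  have hint : IsIntegralHom p₁ := by
    have : IsIntegralHom (Spec.map (CommRingCat.ofHom (algebraMap k k₁))) := by
      rw [IsIntegralHom.SpecMap_iff]
      exact algebraMap_isIntegral_iff.2 inferInstance
    exact MorphismProperty.of_isPullback hpb₁.flip this
  have hsurj : Surjective p₁ := by
    have : Surjective (Spec.map (CommRingCat.ofHom (algebraMap k k₁))) :=
      ⟨fun x => ⟨default, Subsingleton.elim _ _⟩⟩
    exact MorphismProperty.of_isPullback hpb₁.flip this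
  have hint' : IsIntegralHom (z₁ ≫ p₁) := inferInstance
  have hsurj' : Surjective (z₁ ≫ p₁) := inferInstance
  have hdimZ : topologicalKrullDim Z₁ = topologicalKrullDim X :=
    Groth.Agent.Sga3C.DimTop.topologicalKrullDim_eq_of_isIntegralHom (z₁ ≫ p₁)
  have hcptX₁ : CompactSpace X₁ := (quasiCompact_iff_compactSpace f₁).mp inferInstance
  have hnoethZ : IsLocallyNoetherian Z₁ := LocallyOfFiniteType.isLocallyNoetherian (z₁ ≫ f₁)
  have hcptZ : CompactSpace Z₁ := (quasiCompact_iff_compactSpace (z₁ ≫ f₁)).mp inferInstance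
  have hNZ : IsNoetherian Z₁ := {}
  have hdimT : topologicalKrullDim T₁ < (n : WithBot ℕ∞) := by
    refine Groth.Agent.Flat2G.AffStratNoeth.krullDim_compl_lt Z₁ U₁ U₁.isOpen ?_ t₁
      t₁.isClosedEmbedding.isInducing ht₁.le n (hdimZ ▸ hX)
    intro C hC
    obtain ⟨o, ho, hne, hoC⟩ :=
      NoetherianSpace.exists_isOpen_nonempty_subset_irreducibleComponent C hC
    obtain ⟨x, hx, hx'⟩ := hU₁d.inter_open_nonempty o ho hne
    exact ⟨x, hx', hoC hx⟩
  obtain ⟨k₂, _, _, hfd₂, hpi₂, hch⟩ := ih k₁ T₁ ((t₁ ≫ z₁) ≫ f₁) hdimT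
  letI : Algebra k k₂ := ((algebraMap k₁ k₂).comp (algebraMap k k₁)).toAlgebra
  haveI : IsScalarTower k k₁ k₂ := IsScalarTower.of_algebraMap_eq (fun _ => rfl)
  refine ⟨k₂, inferInstance, inferInstance, FiniteDimensional.trans k k₁ k₂,
    IsPurelyInseparable.trans k k₁ k₂, ?_⟩
  intro W a b hpb
  have he : Spec.map (CommRingCat.ofHom (algebraMap k k₂)) =
      Spec.map (CommRingCat.ofHom (algebraMap k₁ k₂)) ≫ Spec.map (CommRingCat.ofHom (algebraMap k k₁)) := by
    rw [← Spec.map_comp]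
    rfl
  let a₁ : W ⟶ X₁ := hpb₁.lift a (b ≫ Spec.map (CommRingCat.ofHom (algebraMap k₁ k₂)))
    (by rw [hpb.w, he, Category.assoc])
  have ha₁ : a₁ ≫ p₁ = a := hpb₁.lift_fst _ _ _
  have ha₁' : a₁ ≫ f₁ = b ≫ Spec.map (CommRingCat.ofHom (algebraMap k₁ k₂)) := hpb₁.lift_snd _ _ _
  have hpb₂ : IsPullback a₁ b f₁ (Spec.map (CommRingCat.ofHom (algebraMap k₁ k₂))) := by
    refine IsPullback.of_right (h₁₂ := p₁) (h₂₂ := Spec.map (CommRingCat.ofHom (algebraMap k k₁))) (v₁₃ := f) ?_ ha₁' hpb₁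
    rw [ha₁, ← he]
    exact hpb
  refine chain_of_tower f₁ _ z₁ t₁ U₁ (fun x => ?_) hU₁ (fun Z p q h => ?_) (fun T p q h => hch T p q h)
    a₁ b hpb₂
  · rw [ht₁]
    simp
  · have := GeometricallyReduced.eq_geometrically ▸ hgr'
    exact this _ _ _ h

theorem strat_of_lt (n : ℕ) : ∀ (k : Type u) [Field k] (X : Scheme.{u}) (f : X ⟶ Spec (CommRingCat.of k))
    [LocallyOfFiniteType f] [QuasiCompact f], topologicalKrullDim X < (n : WithBot ℕ∞) → Strat f := by
  induction n with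
  | zero =>
    intro k _ X f _ _ h
    have : IsEmpty X := by
      by_contra hne
      rw [not_isEmpty_iff] at hne
      obtain ⟨x⟩ := hne
      have hne' : Nonempty (IrreducibleCloseds X) :=
        ⟨⟨closure {x}, isIrreducible_singleton.closure, isClosed_closure⟩⟩
      have h0 : 0 ≤ topologicalKrullDim X := Order.krullDim_nonneg
      rw [Nat.cast_zero] at h
      exact absurd h (not_lt.mpr h0)
    exact strat_of_isEmpty f
  | succ n ih =>
    intro k _ X f _ _ h
    exact step f n ih h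

end K419.StratInd
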