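import Mathlib.RingTheory.Localization.Ideal
import Mathlib.RingTheory.LocalRing.MaximalIdeal.Basic
import Mathlib.LinearAlgebra.TensorProduct.RightExactness
import Mathlib.RingTheory.Localization.AtPrime.Basic

/-!
# Base change of a coefficient field
-/

set_option autoImplicit false

namespace K419.CoeffBC

open IsLocalRing TensorProduct

/-- `B` a localization of `A ⊗[k] K` with `m_A B = m_B`; a coefficient field `F → B'` of `A` in a local
`B`-algebra `B'` extends to a coefficient field of `B`, compatible with `K`. -/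
theorem exists_extension {k K A B F F' B' : Type*} [Field k] [Field K] [CommRing A] [CommRing B]
    [Field F] [Field F'] [CommRing B'] [Algebra k K] [Algebra k A] [Algebra k F]
    [IsLocalRing A] [IsLocalRing B] [IsLocalRing B']
    (ρ : A →ₐ[k] F) (hρ : Function.Surjective ρ) (hkρ : RingHom.ker ρ = maximalIdeal A)
    (ρ' : B →+* F') (hρ' : Function.Surjective ρ') (hkρ' : RingHom.ker ρ' = maximalIdeal B)
    (θ : A ⊗[k] K →+* B) (hθ : letI := θ.toAlgebra; IsLocalization.AtPrime B ((maximalIdeal B).comap θ))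
    (hm : (maximalIdeal A).map (θ.comp Algebra.TensorProduct.includeLeftRingHom) = maximalIdeal B)
    (ι : F →+* F') (hι : ∀ a, ι (ρ a) = ρ' (θ (a ⊗ₜ 1)))
    (j : B →+* B') [IsLocalHom j]
    (σ : F →+* B') (hσ : ∀ a, σ (ρ a) - j (θ (a ⊗ₜ 1)) ∈ maximalIdeal B')
    (hσk : ∀ c : k, σ (algebraMap k F c) = j (θ (1 ⊗ₜ (algebraMap k K c)))) :
    ∃ s : F' →+* B', (∀ a, s (ι a) = σ a) ∧ (∀ c : K, s (ρ' (θ (1 ⊗ₜ c))) = j (θ (1 ⊗ₜ c))) ∧
      ∀ b, s (ρ' b) - j b ∈ maximalIdeal B' := by
  letI := θ.toAlgebra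
  set q := (maximalIdeal B).comap θ with hq
  haveI : IsLocalization q.primeCompl B := hθ
  -- the map `f : A ⊗ K → F ⊗ K`
  let f : A ⊗[k] K →ₐ[k] F ⊗[k] K := Algebra.TensorProduct.map ρ (AlgHom.id k K)
  have hf : Function.Surjective f :=
    Algebra.TensorProduct.map_surjective ρ (AlgHom.id k K) hρ Function.surjective_id
  -- the algebra structure of `B'` and `F'` over `k`
  letI algB' : Algebra k B' := (σ.comp (algebraMap k F)).toAlgebra
  let σa : F →ₐ[k] B' := { σ with commutes' := fun c => rfl }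
  let κa : K →ₐ[k] B' := { (j.comp θ).comp (Algebra.TensorProduct.includeRight (R := k) (A := A) (B := K)).toRingHom with
    commutes' := fun c => (hσk c).symm }
  let τ : F ⊗[k] K →ₐ[k] B' := Algebra.TensorProduct.lift σa κa (fun _ _ => Commute.all _ _)
  have hτ : ∀ a c, τ (a ⊗ₜ c) = σ a * j (θ (1 ⊗ₜ c)) := fun a c =>
    Algebra.TensorProduct.lift_tmul _ _ _ _ _
  have hιk : ∀ c : k, ι (algebraMap k F c) = ρ' (θ (1 ⊗ₜ (algebraMap k K c))) := by
    intro c
    have h1 : algebraMap k F c = ρ (algebraMap k A c) := (ρ.commutes c).symm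
    rw [h1, hι]
    congr 2
    rw [Algebra.algebraMap_eq_smul_one, Algebra.algebraMap_eq_smul_one, smul_tmul]
  letI algF' : Algebra k F' := (ι.comp (algebraMap k F)).toAlgebra
  let ιa : F →ₐ[k] F' := { ι with commutes' := fun c => rfl }
  let κb : K →ₐ[k] F' := { (ρ'.comp θ).comp (Algebra.TensorProduct.includeRight (R := k) (A := A) (B := K)).toRingHom with
    commutes' := fun c => (hιk c).symm }
  let π : F ⊗[k] K →ₐ[k] F' := Algebra.TensorProduct.lift ιa κb (fun _ _ => Commute.all _ _)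
  have hπ : ∀ a c, π (a ⊗ₜ c) = ι a * ρ' (θ (1 ⊗ₜ c)) := fun a c =>
    Algebra.TensorProduct.lift_tmul _ _ _ _ _
  have hθt : ∀ (a : A) (c : K), θ (a ⊗ₜ c) = θ (a ⊗ₜ 1) * θ (1 ⊗ₜ c) := by
    intro a c
    rw [← map_mul, Algebra.TensorProduct.tmul_mul_tmul, mul_one, one_mul]
  have hπf : ∀ w, π (f w) = ρ' (θ w) := by
    intro w
    induction w using TensorProduct.induction_on with
    | zero => simp
    | tmul a c =>
      change π (ρ a ⊗ₜ c) = _
      rw [hπ, hθt a c, hι, map_mul]
    | add x y hx hy => rw [map_add, map_add, map_add, map_add, hx, hy]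
  have hτf : ∀ w, τ (f w) - j (θ w) ∈ maximalIdeal B' := by
    intro w
    induction w using TensorProduct.induction_on with
    | zero => simp
    | tmul a c =>
      change τ (ρ a ⊗ₜ c) - _ ∈ _
      rw [hτ, hθt a c, map_mul, ← sub_mul]
      exact Ideal.mul_mem_right _ _ (hσ a)
    | add x y hx hy =>
      rw [map_add, map_add, map_add, map_add, add_sub_add_comm]
      exact add_mem hx hy
  letI : Algebra (F ⊗[k] K) F' := π.toRingHom.toAlgebra
  have hloc : IsLocalization (q.primeCompl.map f.toRingHom) F' := by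
    refine IsLocalization.of_surjective q.primeCompl B f.toRingHom hf ρ' hρ' ?_ ?_
    · exact RingHom.ext fun w => (hπf w).symm
    · rw [hkρ', ← hm, ← Ideal.map_map]
      refine Ideal.map_mono ?_
      have h1 := Algebra.TensorProduct.rTensor_ker (R := k) (C := K) ρ hρ
      have h2 : RingHom.ker f.toRingHom = RingHom.ker f := rfl
      rw [h2, h1, hkρ]
      exact le_rfl
  have hunit : ∀ y : q.primeCompl.map f.toRingHom, IsUnit (τ.toRingHom y) := by
    rintro ⟨_, w, hw, rfl⟩
    have h1 : IsUnit (θ w) := by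
      by_contra h
      exact hw ((mem_maximalIdeal _).2 h)
    have h2 := h1.map j
    by_contra h3
    have h4 : τ (f w) ∈ maximalIdeal B' := (mem_maximalIdeal _).2 h3
    have h5 : j (θ w) ∈ maximalIdeal B' := by
      have := sub_mem h4 (hτf w)
      simpa using this
    exact (mem_maximalIdeal _).1 h5 h2
  let s : F' →+* B' := IsLocalization.lift hunit
  have hsπ : ∀ u, s (π u) = τ u := fun u => IsLocalization.lift_eq hunit u
  refine ⟨s, fun a => ?_, fun c => ?_, fun b => ?_⟩
  · have h1 : π (a ⊗ₜ 1) = ι a := by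
      rw [hπ]
      have : (1 : A) ⊗ₜ[k] (1 : K) = 1 := rfl
      rw [this, map_one, map_one, mul_one]
    rw [← h1, hsπ, hτ]
    have : (1 : A) ⊗ₜ[k] (1 : K) = 1 := rfl
    rw [this, map_one, map_one, mul_one]
  · have h1 : π (1 ⊗ₜ c) = ρ' (θ (1 ⊗ₜ c)) := by
      rw [hπ, map_one, one_mul]
    rw [← h1, hsπ, hτ, map_one, one_mul]
  · obtain ⟨⟨w, t⟩, hwt⟩ := IsLocalization.surj q.primeCompl b
    change b * θ t = θ w at hwt
    have h1 : IsUnit (θ t) := by
      by_contra h
      exact t.2 ((mem_maximalIdeal _).2 h)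
    have h2 : s (ρ' b) * τ (f t) = τ (f w) := by
      rw [← hsπ, ← hsπ, hπf, hπf, ← map_mul, ← map_mul, hwt]
    have h3 : (s (ρ' b) - j b) * j (θ t) ∈ maximalIdeal B' := by
      have h4 : (s (ρ' b) - j b) * j (θ t) = (τ (f w) - j (θ w)) - s (ρ' b) * (τ (f t) - j (θ t)) := by
        rw [← hwt, map_mul, mul_sub, h2]
        ring
      rw [h4]
      exact sub_mem (hτf w) (Ideal.mul_mem_left _ _ (hτf t))
    exact ((maximalIdeal.isMaximal B').isPrime.mem_or_mem h3).resolve_right
      (fun h => (mem_maximalIdeal _).1 h (h1.map j))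

end K419.CoeffBC
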