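import Groth.Agent.CalgB.PowSerMap
import Groth.Agent.CalgB.PowField
import Groth.Agent.Ega41.FlatIso
import Mathlib.RingTheory.MvPowerSeries.Equiv
import Mathlib.RingTheory.AdicCompletion.Noetherian

/-!
# Base change of a presentation of a complete local ring by a power series ring
-/

set_option autoImplicit false

namespace K419.CplBC

open IsLocalRing MvPowerSeries

/-- Let `A'` be presented as `F[[x]]/(G)`, `c : A' → B'` flat with `m_{A'} B' = m_{B'}`, `B'` complete with a
coefficient field `F'` compatible with `F`. Then `B' = F'[[x]]/(G)`. -/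
theorem exists_ringEquiv {F F' A' B' : Type*} [Field F] [Field F'] [CommRing A'] [CommRing B']
    [IsLocalRing A'] [IsLocalRing B'] [IsNoetherianRing B'] [IsAdicComplete (maximalIdeal B') B']
    (n : ℕ) (G : Set (MvPowerSeries (Fin n) F)) (e : (MvPowerSeries (Fin n) F ⧸ Ideal.span G) ≃+* A')
    (c : A' →+* B') (hc : c.Flat) (hloc : (maximalIdeal A').map c = maximalIdeal B')
    (ι : F →+* F') (s : F' →+* B') (hs : ∀ a, s (ι a) = c (e (Ideal.Quotient.mk _ (C a))))
    (hsurj : ∀ b : B', ∃ r : F', b - s r ∈ maximalIdeal B') :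
    ∃ Φ : (MvPowerSeries (Fin n) F' ⧸ Ideal.span (MvPowerSeries.map (σ := Fin n) ι '' G)) ≃+* B',
      ∀ r, Φ (Ideal.Quotient.mk _ (C r)) = s r := by
  let q : MvPowerSeries (Fin n) F →+* A' := e.toRingHom.comp (Ideal.Quotient.mk _)
  have hq : Function.Surjective q := e.surjective.comp Ideal.Quotient.mk_surjective
  have hqm : (maximalIdeal (MvPowerSeries (Fin n) F)).map q = maximalIdeal A' :=
    IsLocalRing.map_maximalIdeal_of_surjective q hq
  let t : Fin n → B' := fun i => c (q (X i))
  have hspanA : Ideal.span (Set.range fun i => q (X i)) = maximalIdeal A' := by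
    rw [← hqm, Groth.Agent.CalgB.PowField.maximalIdeal_eq, Ideal.map_span, ← Set.range_comp]
    rfl
  have hspan : Ideal.span (Set.range t) = maximalIdeal B' := by
    rw [← hloc, ← hspanA, Ideal.map_span, ← Set.range_comp]
    rfl
  have ht : ∀ i, t i ∈ maximalIdeal B' := fun i => hspan.le (Ideal.subset_span ⟨i, rfl⟩)
  letI : Algebra F' B' := s.toAlgebra
  let ψ : MvPowerSeries (Fin n) F' →+* B' :=
    (Groth.Agent.Ega41.PowEval.powEval (R := F') (maximalIdeal B') t ht : _ →+* B')
  have hψX : ∀ i, ψ (X i) = t i := fun i => Groth.Agent.Ega41.PowEval.powEval_X _ _ _ i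
  have hψC : ∀ r, ψ (C r) = s r := fun r => Groth.Agent.Ega41.PowEval.powEval_C _ _ _ r
  have hψs : Function.Surjective ψ :=
    Groth.Agent.CalgB.PowSerMap.powEval_surjective (Λ := F') (maximalIdeal B') t ht hspan hsurj
  have hcomp : ψ.comp (MvPowerSeries.map (σ := Fin n) ι) = c.comp q := by
    apply Groth.Agent.CalgB.PowSerMap.ringHom_ext (maximalIdeal B')
    · intro i
      rw [RingHom.comp_apply, MvPowerSeries.map_X, hψX]
      exact ht i
    · intro i
      rw [RingHom.comp_apply, MvPowerSeries.map_X, hψX]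
      rfl
    · intro r
      rw [RingHom.comp_apply, MvPowerSeries.map_C, hψC, hs]
      rfl
  set G' := Ideal.span (MvPowerSeries.map (σ := Fin n) ι '' G) with hG'
  have hG : ∀ f ∈ G', ψ f = 0 := by
    intro f hf
    have h1 : G' ≤ RingHom.ker ψ := by
      rw [hG', Ideal.span_le]
      rintro _ ⟨g, hg, rfl⟩
      change ψ (MvPowerSeries.map ι g) = 0
      have h2 : ψ (MvPowerSeries.map ι g) = c (q g) := RingHom.congr_fun hcomp g
      have h3 : q g = 0 := by
        change e (Ideal.Quotient.mk _ g) = 0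
        rw [Ideal.Quotient.eq_zero_iff_mem.2 (Ideal.subset_span hg), map_zero]
      rw [h2, h3, map_zero]
    exact h1 hf
  let Ψ : (MvPowerSeries (Fin n) F' ⧸ G') →+* B' := Ideal.Quotient.lift G' ψ hG
  have hΨs : Function.Surjective Ψ := Ideal.Quotient.lift_surjective_of_surjective _ hG hψs
  have hle : Ideal.span G ≤ G'.comap (MvPowerSeries.map (σ := Fin n) ι) := by
    rw [Ideal.span_le]
    intro g hg
    exact Ideal.subset_span ⟨g, hg, rfl⟩
  let d : A' →+* (MvPowerSeries (Fin n) F' ⧸ G') :=
    (Ideal.quotientMap G' (MvPowerSeries.map (σ := Fin n) ι) hle).comp e.symm.toRingHom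
  have hd : Ψ.comp d = c := by
    ext a
    obtain ⟨f, rfl⟩ := hq a
    have h1 : d (q f) = Ideal.Quotient.mk G' (MvPowerSeries.map ι f) := by
      change Ideal.quotientMap G' (MvPowerSeries.map (σ := Fin n) ι) hle
        (e.symm (e (Ideal.Quotient.mk _ f))) = _
      rw [e.symm_apply_apply, Ideal.quotientMap_mk]
    rw [RingHom.comp_apply, h1]
    exact RingHom.congr_fun hcomp f
  haveI : Nontrivial (MvPowerSeries (Fin n) F' ⧸ G') := hΨs.nontrivial
  haveI : IsLocalRing (MvPowerSeries (Fin n) F' ⧸ G') :=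
    IsLocalRing.of_surjective' (Ideal.Quotient.mk _) Ideal.Quotient.mk_surjective
  have hdm : (maximalIdeal A').map d = maximalIdeal (MvPowerSeries (Fin n) F' ⧸ G') := by
    rw [← IsLocalRing.map_maximalIdeal_of_surjective (Ideal.Quotient.mk G')
      Ideal.Quotient.mk_surjective, Groth.Agent.CalgB.PowField.maximalIdeal_eq, ← hspanA,
      Ideal.map_span, Ideal.map_span, ← Set.range_comp, ← Set.range_comp]
    congr 2
    funext i
    change Ideal.quotientMap G' (MvPowerSeries.map (σ := Fin n) ι) hle
        (e.symm (e (Ideal.Quotient.mk _ (X i)))) = _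
    rw [e.symm_apply_apply, Ideal.quotientMap_mk, MvPowerSeries.map_X]
    rfl
  letI : Algebra A' B' := c.toAlgebra
  letI : Algebra A' (MvPowerSeries (Fin n) F' ⧸ G') := d.toAlgebra
  haveI : Module.Flat A' B' := hc
  let v : (MvPowerSeries (Fin n) F' ⧸ G') →ₐ[A'] B' :=
    { Ψ with commutes' := fun a => RingHom.congr_fun hd a }
  haveI : IsHausdorff ((maximalIdeal A').map (algebraMap A' (MvPowerSeries (Fin n) F' ⧸ G')))
      (MvPowerSeries (Fin n) F' ⧸ G') := by
    have : (maximalIdeal A').map (algebraMap A' (MvPowerSeries (Fin n) F' ⧸ G')) = _ := hdm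
    rw [this]
    infer_instance
  have hinj : Function.Injective v := by
    refine Groth.Agent.Ega41.FlatIso.injective_of_flat (maximalIdeal A') v hΨs ?_
    intro x hx
    have h1 : v x ∈ maximalIdeal B' := by
      rw [← hloc]; exact hx
    have h2 : x ∈ maximalIdeal (MvPowerSeries (Fin n) F' ⧸ G') := by
      by_contra h3
      have h4 : IsUnit x := by
        by_contra h5
        exact h3 ((mem_maximalIdeal _).2 h5)
      exact (mem_maximalIdeal _).1 h1 (h4.map v)
    have : (maximalIdeal A').map (algebraMap A' (MvPowerSeries (Fin n) F' ⧸ G')) = _ := hdm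
    rw [this]
    exact h2
  refine ⟨RingEquiv.ofBijective Ψ ⟨hinj, hΨs⟩, fun r => ?_⟩
  exact hψC r

end K419.CplBC
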