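import Mathlib.AlgebraicGeometry.IdealSheaf.Functorial
import Mathlib.AlgebraicGeometry.Morphisms.Smooth
import Mathlib.AlgebraicGeometry.Morphisms.ClosedImmersion

/-!
# Chains of closed subschemes with smooth strata

* `Chain b`: for `b : W ⟶ S` there is a descending chain of closed subschemes from `W_red` to `∅`
  all of whose strata are smooth over `S`.
* `chain_of_step`: glue a smooth open piece of `W_red` to a chain of the closed complement.
-/

set_option autoImplicit false
universe u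
open CategoryTheory CategoryTheory.Limits AlgebraicGeometry Topology TopologicalSpace

namespace K419.StratChain

/-- `W → S` has a descending chain of closed subschemes from `W_red` to `∅` with smooth strata. -/
def Chain {W S : Scheme.{u}} (b : W ⟶ S) : Prop :=
  ∃ (t : ℕ) (I : Fin (t + 1) → W.IdealSheafData),
      Monotone I ∧ I 0 = Scheme.IdealSheafData.vanishingIdeal ⊤ ∧ I (Fin.last t) = ⊤ ∧
        ∀ i : Fin t,
          Smooth (((I i.castSucc).subschemeι ⁻¹ᵁ (I i.succ).support.compl).ι ≫ (I i.castSucc).subschemeι ≫ b)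

/-- Smoothness of an open piece of a closed subscheme only depends on the ideal. -/
theorem smooth_of_ker_eq {Z W S : Scheme.{u}} (c : Z ⟶ W) [IsClosedImmersion c]
    (I : W.IdealSheafData) (hI : c.ker = I) (b : W ⟶ S) (V : W.Opens)
    (h : Smooth ((c ⁻¹ᵁ V).ι ≫ c ≫ b)) : Smooth ((I.subschemeι ⁻¹ᵁ V).ι ≫ I.subschemeι ≫ b) := by
  subst hI
  have h1 : c.toImage ≫ c.imageι = c := c.toImage_imageι
  have h2 : IsIso c.toImage := inferInstance
  have h2' : IsIso (c.toImage ∣_ (c.imageι ⁻¹ᵁ V)) := inferInstance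
  have h2'' : Smooth (inv (c.toImage ∣_ (c.imageι ⁻¹ᵁ V))) := inferInstance
  have h3 : c.toImage ∣_ (c.imageι ⁻¹ᵁ V) ≫ (c.imageι ⁻¹ᵁ V).ι =
      (c.toImage ⁻¹ᵁ (c.imageι ⁻¹ᵁ V)).ι ≫ c.toImage := morphismRestrict_ι c.toImage (c.imageι ⁻¹ᵁ V)
  have h4 : (c.toImage ⁻¹ᵁ (c.imageι ⁻¹ᵁ V)).ι ≫ c ≫ b =
      c.toImage ∣_ (c.imageι ⁻¹ᵁ V) ≫ (c.imageι ⁻¹ᵁ V).ι ≫ c.imageι ≫ b := by
    rw [reassoc_of% h3, reassoc_of% h1]
  have h5 : inv (c.toImage ∣_ (c.imageι ⁻¹ᵁ V)) ≫ (c.toImage ⁻¹ᵁ (c.imageι ⁻¹ᵁ V)).ι ≫ c ≫ b =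
      (c.imageι ⁻¹ᵁ V).ι ≫ c.imageι ≫ b := by
    rw [h4, IsIso.inv_hom_id_assoc]
  have h6 : (c.toImage ⁻¹ᵁ (c.imageι ⁻¹ᵁ V)) = c ⁻¹ᵁ V := by
    rw [← Scheme.Hom.comp_preimage, h1]
  have h7 : Smooth ((c.toImage ⁻¹ᵁ (c.imageι ⁻¹ᵁ V)).ι ≫ c ≫ b) := by
    rw [h6]
    exact h
  have h8 : Smooth ((c.imageι ⁻¹ᵁ V).ι ≫ c.imageι ≫ b) := by
    rw [← h5]
    infer_instance
  exact h8

/-- The kernel of a closed immersion from a reduced scheme. -/
theorem ker_eq_vanishingIdeal {Z W : Scheme.{u}} (c : Z ⟶ W) [IsClosedImmersion c] [IsReduced Z]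
    [Surjective c] : c.ker = Scheme.IdealSheafData.vanishingIdeal ⊤ := by
  rw [← Scheme.IdealSheafData.map_bot, ← Scheme.nilradical_eq_bot (X := Z),
    ← Scheme.IdealSheafData.vanishingIdeal_top, Scheme.IdealSheafData.map_vanishingIdeal]
  congr 1
  refine SetLike.coe_injective ?_
  simp [c.surjective.range_eq]

theorem chain_of_isEmpty {W S : Scheme.{u}} (b : W ⟶ S) [IsEmpty W] : Chain b := by
  refine ⟨0, fun _ => ⊤, fun _ _ _ => le_rfl, ?_, rfl, fun i => i.elim0⟩
  have : (⊤ : Closeds W) = ⊥ := by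
    refine SetLike.coe_injective ?_
    ext x
    exact isEmptyElim x
  rw [this, Scheme.IdealSheafData.vanishingIdeal_bot]

/-- Glue a smooth open piece of `W_red` to a chain of the closed complement. -/
theorem chain_of_step {W S T Z : Scheme.{u}} (b : W ⟶ S) (z : Z ⟶ W) [IsClosedImmersion z]
    [IsReduced Z] [Surjective z] (j : T ⟶ W) [IsClosedImmersion j] (U : Z.Opens)
    (hU : ∀ x : Z, x ∈ U ↔ z x ∉ Set.range j) (hsm : Smooth (U.ι ≫ z ≫ b)) (hc : Chain (j ≫ b)) :
    Chain b := by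
  obtain ⟨t, J, hmono, h0, hlast, hJ⟩ := hc
  have hsupp : ∀ i, (((J i).map j).support : Set W) = j '' ((J i).support : Set T) := by
    intro i
    rw [Scheme.IdealSheafData.support_map]
    exact (j.isClosedEmbedding.isClosedMap _ (J i).support.isClosed).closure_eq
  refine ⟨t + 1, Fin.cons (Scheme.IdealSheafData.vanishingIdeal ⊤) (fun i => (J i).map j), ?_, rfl, ?_, ?_⟩
  · rw [Fin.monotone_iff_le_succ]
    intro i
    refine Fin.cases ?_ (fun i => ?_) i
    · simp only [Fin.castSucc_zero, Fin.cons_zero, Fin.cons_succ]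
      rw [h0, Scheme.IdealSheafData.map_vanishingIdeal]
      exact Scheme.IdealSheafData.vanishingIdeal_antimono le_top
    · simp only [Fin.castSucc_succ, Fin.cons_succ]
      exact Scheme.IdealSheafData.map_mono j (hmono (Fin.castSucc_le_succ i))
  · rw [← Fin.succ_last, Fin.cons_succ, hlast, Scheme.IdealSheafData.map_top]
  · intro i
    refine Fin.cases ?_ (fun i => ?_) i
    · refine smooth_of_ker_eq z _ (ker_eq_vanishingIdeal z) b _ ?_
      change Smooth ((z ⁻¹ᵁ ((J 0).map j).support.compl).ι ≫ z ≫ b)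
      have : z ⁻¹ᵁ ((J 0).map j).support.compl = U := by
        ext x
        rw [SetLike.mem_coe, SetLike.mem_coe, hU]
        change z x ∉ (((J 0).map j).support : Set W) ↔ _
        rw [hsupp, h0]
        simp
      rw [this]
      exact hsm
    · have hk : ((J i.castSucc).subschemeι ≫ j).ker = (J i.castSucc).map j := rfl
      refine smooth_of_ker_eq ((J i.castSucc).subschemeι ≫ j) _ hk b _ ?_
      change Smooth ((((J i.castSucc).subschemeι ≫ j) ⁻¹ᵁ ((J i.succ).map j).support.compl).ι ≫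
        ((J i.castSucc).subschemeι ≫ j) ≫ b)
      have : ((J i.castSucc).subschemeι ≫ j) ⁻¹ᵁ ((J i.succ).map j).support.compl =
          (J i.castSucc).subschemeι ⁻¹ᵁ (J i.succ).support.compl := by
        rw [Scheme.Hom.comp_preimage]
        congr 1
        ext x
        change j x ∉ (((J i.succ).map j).support : Set W) ↔ x ∉ ((J i.succ).support : Set T)
        rw [hsupp, j.isClosedEmbedding.injective.mem_set_image]
      rw [this, Category.assoc]
      exact hJ i

end K419.StratChain
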